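import Cfsg.Agent.H436.Names
import Cfsg.Agent.S0144
import Cfsg.Agent.S0256

/-! Orders of some simple groups. -/

set_option autoImplicit false

namespace Cfsg.Agent.H380.TenRec

open Cfsg Cfsg.Agent.OrdDiv Cfsg.Agent.H436

variable {K : Type*} [Group K] {F : Type} [Field F] [Fintype F]

theorem card_psl {n q N D M : ℕ} (hn : 2 ≤ n) (hF : Fintype.card F = q)
    (e : Nonempty (K ≃* Matrix.ProjectiveSpecialLinearGroup (Fin n) F)) (hD : fPSL.den n q = D)
    (hM : fPSL.num n q = M) (hD0 : 0 < D) (h : M = D * N) : Nat.card K = N := by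
  obtain ⟨e⟩ := e
  rw [Nat.card_congr e.toEquiv]
  have h1 := psl_eq (F := F) hn
  rw [hF, hD, hM, h] at h1
  exact Nat.eq_of_mul_eq_mul_left hD0 h1

theorem card_psu {n q N D M : ℕ} (hn : 3 ≤ n) (hF : Fintype.card F = q ^ 2)
    (e : Nonempty (K ≃* PSU n F q)) (hD : fPSU.den n q = D)
    (hM : fPSU.num n q = M) (hD0 : 0 < D) (h : M = D * N) : Nat.card K = N := by
  obtain ⟨e⟩ := e
  rw [Nat.card_congr e.toEquiv]
  have h1 := psu_eq hF hn
  rw [hD, hM, h] at h1
  exact Nat.eq_of_mul_eq_mul_left hD0 h1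

theorem card_psp {n q N D M : ℕ} (hn : 2 ≤ n) (hF : Fintype.card F = q)
    (e : Nonempty (K ≃* PSp n F)) (hD : fPSp.den n q = D)
    (hM : fPSp.num n q = M) (hD0 : 0 < D) (h : M = D * N) : Nat.card K = N := by
  obtain ⟨e⟩ := e
  rw [Nat.card_congr e.toEquiv]
  have h1 := psp_eq (F := F) hn
  rw [hF, hD, hM, h] at h1
  exact Nat.eq_of_mul_eq_mul_left hD0 h1

theorem card_oplus {n q N D M : ℕ} (hn : 4 ≤ n) (hF : Fintype.card F = q)
    (e : Nonempty (K ≃* POmega F (quadFormPlus n F))) (hD : fOPlus.den n q = D)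
    (hM : fOPlus.num n q = M) (hD0 : 0 < D) (h : M = D * N) : Nat.card K = N := by
  obtain ⟨e⟩ := e
  rw [Nat.card_congr e.toEquiv]
  have h1 := oplus_eq (F := F) hn
  rw [hF, hD, hM, h] at h1
  exact Nat.eq_of_mul_eq_mul_left hD0 h1

theorem card_alt' {n N : ℕ} (hn : 2 ≤ n) (e : Nonempty (K ≃* alternatingGroup (Fin n))) (h : n.factorial = 2 * N) :
    Nat.card K = N := by
  obtain ⟨e⟩ := e
  rw [Nat.card_congr e.toEquiv]
  have : Nontrivial (Fin n) := Fin.nontrivial_iff_two_le.2 hn
  have h1 := two_mul_card_alternatingGroup (α := Fin n)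
  rw [Nat.card_eq_fintype_card]
  rw [Fintype.card_perm, Fintype.card_fin, h] at h1
  omega

theorem l27 (hF : Fintype.card F = 7) (e : Nonempty (K ≃* Matrix.ProjectiveSpecialLinearGroup (Fin 2) F)) :
    Nat.card K = 168 := card_psl le_rfl hF e rfl rfl (by decide) (by decide)
theorem l28 (hF : Fintype.card F = 8) (e : Nonempty (K ≃* Matrix.ProjectiveSpecialLinearGroup (Fin 2) F)) :
    Nat.card K = 504 := card_psl le_rfl hF e rfl rfl (by decide) (by decide)
theorem l217 (hF : Fintype.card F = 17) (e : Nonempty (K ≃* Matrix.ProjectiveSpecialLinearGroup (Fin 2) F)) :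
    Nat.card K = 2448 := card_psl le_rfl hF e rfl rfl (by decide) (by decide)
theorem l249 (hF : Fintype.card F = 49) (e : Nonempty (K ≃* Matrix.ProjectiveSpecialLinearGroup (Fin 2) F)) :
    Nat.card K = 58800 := card_psl le_rfl hF e rfl rfl (by decide) (by decide)
theorem l33 (hF : Fintype.card F = 3) (e : Nonempty (K ≃* Matrix.ProjectiveSpecialLinearGroup (Fin 3) F)) :
    Nat.card K = 5616 := card_psl (by norm_num) hF e rfl rfl (by decide) (by decide)
theorem l34 (hF : Fintype.card F = 4) (e : Nonempty (K ≃* Matrix.ProjectiveSpecialLinearGroup (Fin 3) F)) :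
    Nat.card K = 20160 := card_psl (by norm_num) hF e rfl rfl (by decide) (by decide)
theorem u33 (hF : Fintype.card F = 9) (e : Nonempty (K ≃* PSU 3 F 3)) :
    Nat.card K = 6048 := card_psu le_rfl (by rw [hF]; norm_num) e rfl rfl (by decide) (by decide)
theorem u35 (hF : Fintype.card F = 25) (e : Nonempty (K ≃* PSU 3 F 5)) :
    Nat.card K = 126000 := card_psu le_rfl (by rw [hF]; norm_num) e rfl rfl (by decide) (by decide)
theorem u42 (hF : Fintype.card F = 4) (e : Nonempty (K ≃* PSU 4 F 2)) :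
    Nat.card K = 25920 := card_psu (by norm_num) (by rw [hF]; norm_num) e rfl rfl (by decide) (by decide)
theorem u43 (hF : Fintype.card F = 9) (e : Nonempty (K ≃* PSU 4 F 3)) :
    Nat.card K = 3265920 := card_psu (by norm_num) (by rw [hF]; norm_num) e rfl rfl (by decide) (by decide)
theorem s47 (hF : Fintype.card F = 7) (e : Nonempty (K ≃* PSp 2 F)) :
    Nat.card K = 138297600 := card_psp le_rfl hF e rfl rfl (by decide) (by decide)
theorem s62 (hF : Fintype.card F = 2) (e : Nonempty (K ≃* PSp 3 F)) :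
    Nat.card K = 1451520 := card_psp (by norm_num) hF e rfl rfl (by decide) (by decide)
theorem o8p2 (hF : Fintype.card F = 2) (e : Nonempty (K ≃* POmega F (quadFormPlus 4 F))) :
    Nat.card K = 174182400 := card_oplus le_rfl hF e rfl rfl (by decide) (by decide)

end Cfsg.Agent.H380.TenRec
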