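import Cfsg.Agent.H380.TenRec.Ctx
import Cfsg.Agent.StandardComponent.AltAut
import Cfsg.Agent.H379.PermOrders
import Cfsg.Agent.H380.AltSpecTen

/-! The cases `S ≅ A₈`, `A₉`, `A₁₀`. -/

set_option autoImplicit false

namespace Cfsg.Agent.H380.TenRec

open Equiv Cfsg.Agent.StandardComponent.AltAut

/-- The action on an alternating normal subgroup. -/
theorem alt_embed {Γ : Type*} [Group Γ] {S : Subgroup Γ} (hn : S.Normal)
    (hc : Subgroup.centralizer (S : Set Γ) = ⊥) {m : ℕ} (hm : 5 ≤ m) (e : S ≃* alternatingGroup (Fin (m + 2))) :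
    ∃ φ : Γ →* Perm (Fin (m + 2)), Function.Injective φ ∧ ∀ s : S, φ s = e s := by
  obtain ⟨ψ, hψ⟩ := exists_autHom (m + 2) (by omega)
  let φ : Γ →* Perm (Fin (m + 2)) := ψ.comp ((MulAut.congr e).toMonoidHom.comp MulAut.conjNormal)
  have key : ∀ (g : Γ) (s : S), ((e ⟨g * s * g⁻¹, hn.conj_mem s s.2 g⟩ : alternatingGroup (Fin (m + 2))) :
      Perm (Fin (m + 2))) = φ g * e s * (φ g)⁻¹ := by
    intro g s
    have h1 := hψ (MulAut.congr e (MulAut.conjNormal g)) (e s)
    have h2 : (MulAut.congr e (MulAut.conjNormal g)) (e s) = e ⟨g * s * g⁻¹, hn.conj_mem s s.2 g⟩ := by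
      change e (MulAut.conjNormal g (e.symm (e s))) = _
      rw [e.symm_apply_apply]
      congr 1
    rw [h2] at h1
    exact h1
  refine ⟨φ, ?_, ?_⟩
  · rw [injective_iff_map_eq_one]
    intro g hg
    have h1 : g ∈ Subgroup.centralizer (S : Set Γ) := by
      rw [Subgroup.mem_centralizer_iff]
      intro s hs
      have h2 := key g ⟨s, hs⟩
      rw [hg, one_mul, inv_one, mul_one] at h2
      have h3 := congrArg Subtype.val (e.injective (Subtype.ext h2))
      change g * s * g⁻¹ = s at h3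
      exact (mul_inv_eq_iff_eq_mul.1 h3).symm
    rw [hc, Subgroup.mem_bot] at h1
    exact h1
  · intro s0
    apply conj_unique (m := m) (by omega)
    intro x
    obtain ⟨s, rfl⟩ := e.surjective x
    rw [← key]
    have h1 : (⟨s0 * s * (s0 : Γ)⁻¹, hn.conj_mem s s.2 s0⟩ : S) = s0 * s * s0⁻¹ := rfl
    rw [h1, map_mul, map_mul, map_inv]
    rfl

theorem top_or_alt {n : ℕ} (hn : 2 ≤ n) (H : Subgroup (Perm (Fin n))) (hA : alternatingGroup (Fin n) ≤ H) :
    H = ⊤ ∨ H = alternatingGroup (Fin n) := by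
  have : Nontrivial (Fin n) := Fin.nontrivial_iff_two_le.2 hn
  have h1 := Subgroup.index_dvd_of_le hA
  rw [alternatingGroup.index_eq_two] at h1
  rcases (Nat.dvd_prime Nat.prime_two).1 h1 with h | h
  · exact Or.inl (Subgroup.index_eq_one.1 h)
  · right
    symm
    apply Subgroup.eq_of_le_of_card_ge hA
    have h2 := H.card_mul_index
    have h3 := (alternatingGroup (Fin n)).card_mul_index
    rw [alternatingGroup.index_eq_two, ← h2, h] at h3
    omega

variable {G : Type*} [Group G] [Finite G] {R : Subgroup G} [R.Normal] {S : Subgroup (G ⧸ R)}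

theorem alt_range (hn : S.Normal) (hc : Subgroup.centralizer (S : Set (G ⧸ R)) = ⊥) {m : ℕ} (hm : 5 ≤ m)
    (e : S ≃* alternatingGroup (Fin (m + 2))) :
    ∃ φ : (G ⧸ R) →* Perm (Fin (m + 2)), Function.Injective φ ∧ (∀ s : S, φ s = e s) ∧
      (φ.range = ⊤ ∨ φ.range = alternatingGroup (Fin (m + 2))) := by
  obtain ⟨φ, hφ, hS⟩ := alt_embed hn hc hm e
  refine ⟨φ, hφ, hS, top_or_alt (by omega) _ ?_⟩
  intro x hx
  refine ⟨(e.symm ⟨x, hx⟩ : S), ?_⟩
  rw [hS, e.apply_symm_apply]

theorem card_range {m : ℕ} {φ : (G ⧸ R) →* Perm (Fin (m + 2))} (hφ : Function.Injective φ) :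
    Nat.card φ.range = Nat.card (G ⧸ R) := Nat.card_congr (MonoidHom.ofInjective hφ).toEquiv.symm

theorem card_alt {n : ℕ} (hn : 2 ≤ n) : 2 * Nat.card (alternatingGroup (Fin n)) = n.factorial := by
  have : Nontrivial (Fin n) := Fin.nontrivial_iff_two_le.2 hn
  have h := two_mul_card_alternatingGroup (α := Fin n)
  rw [Nat.card_eq_fintype_card, h, Fintype.card_perm, Fintype.card_fin]

/-- `S ≅ A₉` is impossible. -/
theorem Ctx.case_A9 (h : Ctx G R S) (h2 : ¬ 2 ∣ Nat.card R) (e : S ≃* alternatingGroup (Fin 9)) : False := by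
  obtain ⟨φ, hφ, hS, hr⟩ := alt_range h.norm h.cent (m := 7) (by norm_num) e
  have h1 := h.two_Q h2
  rw [← card_range hφ] at h1
  rcases hr with hr | hr
  · -- an element of order twenty
    let a : Perm (Fin 9) := c[0, 1, 2, 3, 4]
    let b : Perm (Fin 9) := c[5, 6, 7, 8]
    have ha : orderOf a = 5 := by
      have := Fact.mk (show Nat.Prime 5 by norm_num)
      exact orderOf_eq_prime (by decide +kernel) (by decide +kernel)
    have hb : orderOf b = 4 := by
      have := Fact.mk Nat.prime_two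
      exact orderOf_eq_prime_pow (p := 2) (n := 1) (by decide +kernel) (by decide +kernel)
    have hab : Commute a b := by
      change a * b = b * a
      decide +kernel
    have hO : Om (Perm (Fin 9)) := h.omQ.of_surjective φ (MonoidHom.range_eq_top.1 hr)
    exact hO.false_of_commute hab (by rw [ha]) (by rw [hb]) (by norm_num) (by decide)
  · rw [hr] at h1
    have h3 := card_alt (n := 9) (by norm_num)
    have h4 : Nat.card (alternatingGroup (Fin 9)) = 181440 := by
      have : (9 : ℕ).factorial = 362880 := by decide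
      omega
    change 2 ^ 7 ∣ Nat.card (alternatingGroup (Fin 9)) at h1
    rw [h4] at h1
    revert h1; decide

/-- the multiplication by three on the numbers modulo seven -/
def y8 : Perm (Fin 8) := c[1, 3, 2, 6, 4, 5]
def x8 : Perm (Fin 8) := c[0, 1, 2, 3, 4, 5, 6]

theorem y8_x8 : y8 * x8 * y8⁻¹ = x8 ^ 3 := by decide +kernel

theorem orderOf_x8 : orderOf x8 = 7 := by
  have := Fact.mk (show Nat.Prime 7 by norm_num)
  exact orderOf_eq_prime (by decide +kernel) (by decide +kernel)

theorem orders8 (g : Perm (Fin 8)) (h : g ^ 9 = 1) : g ^ 3 = 1 := by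
  have h1 := Cfsg.Agent.H379.PermOrders.orderOf_mem8 g
  have h2 : orderOf g ∣ 9 := orderOf_dvd_of_pow_eq_one h
  have key : ∀ n ∈ ({1, 2, 3, 4, 5, 6, 7, 8, 10, 12, 15} : Finset ℕ), n ∣ 9 → n ∣ 3 := by decide
  exact orderOf_dvd_iff_pow_eq_one.1 (key _ h1 h2)

/-- Elements of order three of `A₈` are real in `A₈`. -/
theorem real8 (g : Perm (Fin 8)) (h : g ^ 3 = 1) : ∃ s ∈ alternatingGroup (Fin 8), s * g * s⁻¹ = g⁻¹ := by
  classical
  have hp : Fact (Nat.Prime 3) := ⟨Nat.prime_three⟩
  obtain ⟨s, hs⟩ : ∃ s : Perm (Fin 8), s * g * s⁻¹ = g⁻¹ := by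
    have h1 : IsConj g g⁻¹ := by
      rw [Equiv.Perm.isConj_iff_cycleType_eq, Equiv.Perm.cycleType_inv]
    exact isConj_iff.1 h1
  -- two fixed points
  have h1 : (Equiv.Perm.support g).card ≤ 6 := by
    have h2 : 3 ∣ (Equiv.Perm.support g).card := by
      rw [← Equiv.Perm.sum_cycleType]
      apply Multiset.dvd_sum
      intro n hn
      have h3 : n ∣ 3 := (Equiv.Perm.dvd_of_mem_cycleType hn).trans (orderOf_dvd_of_pow_eq_one h)
      have h4 := Equiv.Perm.two_le_of_mem_cycleType hn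
      rcases (Nat.dvd_prime Nat.prime_three).1 h3 with h5 | h5
      · omega
      · rw [h5]
    have h3 : (Equiv.Perm.support g).card ≤ 8 := by
      have := Finset.card_le_univ (Equiv.Perm.support g)
      simpa using this
    omega
  have h2 : 1 < (Equiv.Perm.support g)ᶜ.card := by
    rw [Finset.card_compl, Fintype.card_fin]; omega
  obtain ⟨a, ha, b, hb, hab⟩ := Finset.one_lt_card.1 h2
  rw [Finset.mem_compl, Equiv.Perm.notMem_support] at ha hb
  have hc : Equiv.swap a b * g * (Equiv.swap a b)⁻¹ = g := by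
    rw [mul_inv_eq_iff_eq_mul]
    ext i
    rw [Equiv.Perm.mul_apply, Equiv.Perm.mul_apply]
    by_cases h3 : i = a
    · subst h3; rw [ha, Equiv.swap_apply_left, hb]
    · by_cases h4 : i = b
      · subst h4; rw [hb, Equiv.swap_apply_right, ha]
      · rw [Equiv.swap_apply_of_ne_of_ne h3 h4, Equiv.swap_apply_of_ne_of_ne]
        · intro h5; exact h3 (g.injective (h5.trans ha.symm))
        · intro h5; exact h4 (g.injective (h5.trans hb.symm))
  rcases Int.units_eq_one_or (Equiv.Perm.sign s) with h3 | h3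
  · exact ⟨s, Equiv.Perm.mem_alternatingGroup.2 h3, hs⟩
  · refine ⟨s * Equiv.swap a b, ?_, ?_⟩
    · rw [Equiv.Perm.mem_alternatingGroup, Equiv.Perm.sign_mul, h3, Equiv.Perm.sign_swap hab]
      decide
    · calc s * Equiv.swap a b * g * (s * Equiv.swap a b)⁻¹
          = s * (Equiv.swap a b * g * (Equiv.swap a b)⁻¹) * s⁻¹ := by group
        _ = g⁻¹ := by rw [hc, hs]

/-- `S ≅ A₈` is impossible. -/
theorem Ctx.case_A8 (h : Ctx G R S) (h2 : ¬ 2 ∣ Nat.card R) (e : S ≃* alternatingGroup (Fin 8)) : False := by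
  obtain ⟨φ, hφ, hS, hr⟩ := alt_range h.norm h.cent (m := 6) (by norm_num) e
  have h1 := h.two_Q h2
  rw [← card_range hφ] at h1
  have hr' : φ.range = ⊤ := by
    rcases hr with hr | hr
    · exact hr
    · exfalso
      rw [hr] at h1
      have h3 := card_alt (n := 8) (by norm_num)
      have h4 : Nat.card (alternatingGroup (Fin 8)) = 20160 := by
        have : (8 : ℕ).factorial = 40320 := by decide
        omega
      change 2 ^ 7 ∣ Nat.card (alternatingGroup (Fin 8)) at h1
      rw [h4] at h1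
      revert h1; decide
  have hsurj : Function.Surjective φ := MonoidHom.range_eq_top.1 hr'
  obtain ⟨x', hx'⟩ := hsurj x8
  obtain ⟨y', hy'⟩ := hsurj y8
  have hxo : orderOf x' = 7 := by rw [← orderOf_injective φ hφ, hx']; exact orderOf_x8
  have hyx : y' * x' * y'⁻¹ = x' ^ 3 := by
    apply hφ
    rw [map_mul, map_mul, map_inv, map_pow, hx', hy']
    exact y8_x8
  obtain ⟨x, y, hxx, hx, hyx'⟩ := lift_frob R h.seven_R hxo hyx
  have hcen := central h.om R h.solv h.seven_R h2 hx hyx'
  have hR3 := pow_three_of_central h.om R h.seven_R h2 hx hcen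
  have hxR : x ∉ R := by
    intro hxR
    have : x' = 1 := by rw [← hxx]; exact (QuotientGroup.eq_one_iff x).2 hxR
    rw [this, orderOf_one] at hxo
    norm_num at hxo
  have hSC := le_map_centralizer R h.norm h.simp h.cent hxR hcen
  obtain ⟨g, hg⟩ := h.o9
  refine false_of_nine h.om R hR3 hSC ?_ hg
  intro u hu
  left
  have hu9 : φ u ^ 9 = 1 := by rw [← map_pow, hu, map_one]
  have hu3 : u ^ 3 = 1 := by
    apply hφ
    rw [map_pow, map_one]
    exact orders8 _ hu9
  -- elements with image in the alternating group lie in `S`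
  have hmem : ∀ w : G ⧸ R, φ w ∈ alternatingGroup (Fin 8) → w ∈ S := by
    intro w hw
    have h5 : φ w = φ (e.symm ⟨φ w, hw⟩ : S) := by rw [hS, e.apply_symm_apply]
    rw [hφ h5]
    exact (e.symm ⟨φ w, hw⟩ : S).2
  have hsg : Equiv.Perm.sign (φ u) = 1 := by
    have h5 : Equiv.Perm.sign (φ u) ^ 3 = 1 := by rw [← map_pow, ← map_pow, hu3, map_one, map_one]
    rcases Int.units_eq_one_or (Equiv.Perm.sign (φ u)) with h6 | h6
    · exact h6
    · rw [h6] at h5
      exact absurd h5 (by decide)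
  refine ⟨hmem u (Equiv.Perm.mem_alternatingGroup.2 hsg), hu3, ?_⟩
  obtain ⟨s, hs, hsu⟩ := real8 (φ u) (by rw [← map_pow, hu3, map_one])
  obtain ⟨t, ht⟩ := hsurj s
  refine ⟨t, hmem t (by rw [ht]; exact hs), ?_⟩
  apply hφ
  rw [map_mul, map_mul, map_inv, map_inv, ht]
  exact hsu

def y10 : Perm (Fin 10) := c[1, 3, 2, 6, 4, 5] * c[7, 8]
def x10 : Perm (Fin 10) := c[0, 1, 2, 3, 4, 5, 6]

/-- `S ≅ A₁₀`: then `G ≅ A₁₀`. -/
theorem Ctx.case_A10 (h : Ctx G R S) (h2 : ¬ 2 ∣ Nat.card R) (e : S ≃* alternatingGroup (Fin 10)) :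
    Nonempty (G ≃* alternatingGroup (Fin 10)) := by
  obtain ⟨φ, hφ, hS, hr⟩ := alt_range h.norm h.cent (m := 8) (by norm_num) e
  have hr' : φ.range = alternatingGroup (Fin 10) := by
    rcases hr with hr | hr
    · exfalso
      apply h.two_Q'
      rw [← card_range hφ, hr, Subgroup.card_top]
      change 2 ^ 8 ∣ Nat.card (Perm (Fin 10))
      rw [Nat.card_eq_fintype_card, Fintype.card_perm, Fintype.card_fin]
      decide
    · exact hr
  have hx10 : x10 ∈ φ.range := by rw [hr', Equiv.Perm.mem_alternatingGroup]; decide +kernel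
  have hy10 : y10 ∈ φ.range := by rw [hr', Equiv.Perm.mem_alternatingGroup]; decide +kernel
  obtain ⟨x', hx'⟩ := hx10
  obtain ⟨y', hy'⟩ := hy10
  have hxo : orderOf x' = 7 := by
    rw [← orderOf_injective φ hφ, hx']
    have := Fact.mk (show Nat.Prime 7 by norm_num)
    exact orderOf_eq_prime (by decide +kernel) (by decide +kernel)
  have hyx : y' * x' * y'⁻¹ = x' ^ 3 := by
    apply hφ
    rw [map_mul, map_mul, map_inv, map_pow, hx', hy']
    decide +kernel
  obtain ⟨x, y, hxx, hx, hyx'⟩ := lift_frob R h.seven_R hxo hyx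
  have hcen := central h.om R h.solv h.seven_R h2 hx hyx'
  have hR3 := pow_three_of_central h.om R h.seven_R h2 hx hcen
  have hxR : x ∉ R := by
    intro hxR
    have : x' = 1 := by rw [← hxx]; exact (QuotientGroup.eq_one_iff x).2 hxR
    rw [this, orderOf_one] at hxo
    norm_num at hxo
  have hSC := le_map_centralizer R h.norm h.simp h.cent hxR hcen
  have hR1 : R = ⊥ := by
    apply radical_trivial h.om R hR3 hSC
    have h8 : 8 ∈ Set.range (orderOf : alternatingGroup (Fin 10) → ℕ) := by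
      rw [Cfsg.Agent.H380.AltSpec.range_ten]
      decide
    obtain ⟨a, ha⟩ := h8
    refine ⟨(e.symm a : S), (e.symm a : S).2, ?_⟩
    rw [Subgroup.orderOf_coe, MulEquiv.orderOf_eq]
    exact ha
  subst hR1
  have e1 : G ≃* (G ⧸ (⊥ : Subgroup G)) := QuotientGroup.quotientBot.symm
  have e2 : (G ⧸ (⊥ : Subgroup G)) ≃* φ.range := MonoidHom.ofInjective hφ
  have e3 : φ.range ≃* alternatingGroup (Fin 10) := MulEquiv.subgroupCongr hr'
  exact ⟨(e1.trans e2).trans e3⟩

end Cfsg.Agent.H380.TenRec
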