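import Cfsg.Agent.H380.TenRec.Ctx
import Cfsg.Agent.H379.J2Spec
import Cfsg.Agent.KFacts.J2.Facts
import Cfsg.Agent.KFacts.J2.Aut

/-! The case `S ≅ J₂`. -/

set_option autoImplicit false

namespace Cfsg.Agent.H380.TenRec

open Cfsg.Agent.J2.HundredGens Cfsg.Agent.H379.J2Spec

/-- A simple normal subgroup of odd index with trivial centralizer, products of two outer automorphisms of which
are inner, is the whole group. -/
theorem eq_top_of_mul_inner {Γ : Type*} [Group Γ] [Finite Γ] {S : Subgroup Γ} (hn : S.Normal)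
    (hc : Subgroup.centralizer (S : Set Γ) = ⊥) (hodd : ¬ 2 ∣ S.index)
    (hin : ∀ α β : MulAut S, (∀ k, α ≠ MulAut.conj k) → (∀ k, β ≠ MulAut.conj k) → ∃ k, α * β = MulAut.conj k) :
    S = ⊤ := by
  have key : ∀ (g : Γ) (k : S), (MulAut.conjNormal g : MulAut S) = MulAut.conj k → g ∈ S := by
    intro g k hk
    have h1 : (k : Γ)⁻¹ * g ∈ Subgroup.centralizer (S : Set Γ) := by
      rw [Subgroup.mem_centralizer_iff]
      intro s hs
      have h2 := congrArg (fun f : MulAut S => ((f ⟨s, hs⟩ : S) : Γ)) hk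
      have h3 : g * s * g⁻¹ = k * s * (k : Γ)⁻¹ := by
        have h4 := MulAut.conjNormal_apply g (⟨s, hs⟩ : S)
        exact h4.symm.trans h2
      have h5 : (k : Γ)⁻¹ * (g * s * g⁻¹) * g = (k : Γ)⁻¹ * (k * s * (k : Γ)⁻¹) * g := by rw [h3]
      calc s * ((k : Γ)⁻¹ * g) = (k : Γ)⁻¹ * (k * s * (k : Γ)⁻¹) * g := by group
        _ = (k : Γ)⁻¹ * (g * s * g⁻¹) * g := by rw [h5]
        _ = (k : Γ)⁻¹ * g * s := by group
    rw [hc, Subgroup.mem_bot, inv_mul_eq_one] at h1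
    rw [← h1]; exact k.2
  have hsq : ∀ g : Γ, g * g ∈ S := by
    intro g
    by_cases hg : g ∈ S
    · exact S.mul_mem hg hg
    · have h1 : ∀ k, (MulAut.conjNormal g : MulAut S) ≠ MulAut.conj k := fun k hk => hg (key g k hk)
      obtain ⟨k, hk⟩ := hin _ _ h1 h1
      rw [← map_mul] at hk
      exact key _ k hk
  by_contra hne
  apply hodd
  obtain ⟨g, hg⟩ : ∃ g, g ∉ S := by
    by_contra hcon
    push Not at hcon
    exact hne (eq_top_iff.2 fun g _ => hcon g)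
  have h1 : orderOf (QuotientGroup.mk' S g) = 2 := by
    have := Fact.mk Nat.prime_two
    apply orderOf_eq_prime
    · rw [← map_pow, pow_two]
      exact (QuotientGroup.eq_one_iff (g * g)).2 (hsq g)
    · intro h
      exact hg ((QuotientGroup.eq_one_iff g).1 h)
  rw [← h1]
  exact orderOf_dvd_natCard _

def w7x : List ℕ := w7
def w6y : List ℕ := [3, 2, 3, 1, 2, 3, 4, 0, 1, 2, 3, 0, 1, 2, 1, 0]

theorem w_rel : pw w6y * pw w7x * (pw w6y)⁻¹ = pw w7x ^ 3 := by
  rw [mul_inv_eq_iff_eq_mul, pw_mul, pw_cube, pw_mul]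
  exact pw_eq (by decide +kernel)

variable {G : Type*} [Group G] [Finite G] {R : Subgroup G} [R.Normal] {S : Subgroup (G ⧸ R)}

/-- `S ≅ J₂` is impossible. -/
theorem Ctx.case_J2 (h : Ctx G R S) (h2 : ¬ 2 ∣ Nat.card R) (hJ : Cfsg.Spor.IsoJ2 S) : False := by
  obtain ⟨e0⟩ := hJ
  obtain ⟨e1⟩ := Cfsg.Agent.H379.J2Spec.iso
  have e : S ≃* Cfsg.Agent.SporadicA.J2Hundred.G := e0.trans e1
  have hcard : Nat.card S = 604800 := by
    rw [Nat.card_congr e0.toEquiv]; exact Cfsg.Agent.S1619.result.2.2.2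
  -- the index is odd
  have hodd : ¬ 2 ∣ S.index := by
    intro hd
    apply h.two_Q'
    rw [← S.card_mul_index, hcard]
    exact mul_dvd_mul (show 2 ^ 7 ∣ 604800 by norm_num) hd
  have htop : S = ⊤ := by
    obtain ⟨t, u, Q, v, ρ, D⟩ := Cfsg.Agent.KFacts.J2.Facts.exists_dat_of (X := S) ⟨e0⟩
    exact eq_top_of_mul_inner h.norm h.cent hodd fun α β hα hβ => Cfsg.Agent.KFacts.J2.Aut.mul_inner D hα hβ
  let x0 : Cfsg.Agent.SporadicA.J2Hundred.G := ⟨pw w7x, pw_mem _⟩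
  let y0 : Cfsg.Agent.SporadicA.J2Hundred.G := ⟨pw w6y, pw_mem _⟩
  have hxy0 : y0 * x0 * y0⁻¹ = x0 ^ 3 := Subtype.ext w_rel
  let x' : G ⧸ R := (e.symm x0 : S)
  let y' : G ⧸ R := (e.symm y0 : S)
  have hxo : orderOf x' = 7 := by
    change orderOf ((e.symm x0 : S) : G ⧸ R) = 7
    rw [Subgroup.orderOf_coe, MulEquiv.orderOf_eq, ← Cfsg.Agent.H379.J2Spec.o7]
    exact (Subgroup.orderOf_mk _ _)
  have hyx : y' * x' * y'⁻¹ = x' ^ 3 := by
    have h3 : e.symm y0 * e.symm x0 * (e.symm y0)⁻¹ = e.symm x0 ^ 3 := by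
      rw [← map_mul, ← map_inv, ← map_mul, hxy0, map_pow]
    exact congrArg Subtype.val h3
  obtain ⟨x, y, hxx, hx, hyx'⟩ := lift_frob R h.seven_R hxo hyx
  have hcen := central h.om R h.solv h.seven_R h2 hx hyx'
  have hR3 := pow_three_of_central h.om R h.seven_R h2 hx hcen
  have hxR : x ∉ R := by
    intro hxR
    have : x' = 1 := by rw [← hxx]; exact (QuotientGroup.eq_one_iff x).2 hxR
    rw [this, orderOf_one] at hxo
    norm_num at hxo
  have hSC := le_map_centralizer R h.norm h.simp h.cent hxR hcen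
  have hR1 : R = ⊥ := by
    apply radical_trivial h.om R hR3 hSC
    obtain ⟨a, ha⟩ := exists_order Cfsg.Agent.H379.J2Spec.o8
    refine ⟨(e0.symm a : S), (e0.symm a : S).2, ?_⟩
    rw [Subgroup.orderOf_coe, MulEquiv.orderOf_eq]
    exact ha
  obtain ⟨g, hg⟩ := h.o9
  have hgS : (QuotientGroup.mk' R g) ∈ S := by rw [htop]; exact Subgroup.mem_top _
  have hg9 : orderOf (QuotientGroup.mk' R g) = 9 := by
    rw [← hg]
    apply orderOf_injective
    rw [← MonoidHom.ker_eq_bot_iff, QuotientGroup.ker_mk', hR1]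
  have h3 := orders_J2 (e0 ⟨_, hgS⟩)
  rw [MulEquiv.orderOf_eq, ← Subgroup.orderOf_coe] at h3
  change orderOf (QuotientGroup.mk' R g) ∈ _ at h3
  rw [hg9] at h3
  revert h3; decide

end Cfsg.Agent.H380.TenRec
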