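import Cfsg.Agent.H380.TenRec.Ctx
import Cfsg.Agent.H380.TenRec.SylThree
import Cfsg.Agent.BpLin.PSL

/-! The case `S ≅ L₃(4)`. -/

set_option autoImplicit false

namespace Cfsg.Agent.H380.TenRec

open Matrix MatThree Cfsg.Agent.BpLin
open Cfsg.Agent.ClassicalGeometry.AutPSL.Root Cfsg.Agent.ClassicalGeometry.AutPSL.Auto
open Cfsg.Agent.ClassicalGeometry.AutPSL.Main

variable {F : Type} [Field F] [Fintype F]

theorem sigma_sq (hF : Fintype.card F = 4) (σ : F ≃+* F) (a : F) : σ (σ a) = a := by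
  by_cases h0 : a = 0
  · subst h0; simp
  by_cases h1 : a = 1
  · subst h1; simp
  have h2 := sq_add hF h0 h1
  have h3 : σ a ^ 2 + σ a + 1 = 0 := by
    have := congrArg σ h2
    simpa using this
  have h4 : (σ a - a) * (σ a + a + 1) = 0 := by linear_combination h3 - h2
  rcases mul_eq_zero.1 h4 with h | h
  · have h5 : σ a = a := sub_eq_zero.1 h
    rw [h5, h5]
  · have h5 : σ a = -(a + 1) := by linear_combination h
    rw [h5, map_neg, map_add, map_one, h5]; ring

/-- Automorphisms of order dividing nine. -/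
theorem exists_cj (hF : Fintype.card F = 4) {x : MulAut (Matrix.ProjectiveSpecialLinearGroup (Fin 3) F)}
    (hx : x ^ 9 = 1) : ∃ A : GL (Fin 3) F, x = lift (cj A) ∧ A ^ 3 ^ 3 = 1 := by
  obtain ⟨A, σ, rfl⟩ := exists_type (n := 3) (by norm_num) (m := 9) (by decide) hx
  have hσ : σ ^ 2 = 1 := by
    apply RingEquiv.ext
    intro a
    exact sigma_sq hF σ a
  rw [← map_pow, pow_type] at hx
  have h1 : lift (cj (NA A σ 9) * fld (σ ^ 9)) = lift (fld (1 : F ≃+* F)) := by
    rw [hx, map_one, map_one]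
  obtain ⟨⟨r, hr⟩, h9⟩ := injective_aux h1
  have hσ1 : σ = 1 := by
    have : σ ^ 9 = σ := by
      rw [show 9 = 2 * 4 + 1 from rfl, pow_succ, pow_mul, hσ, one_pow, one_mul]
    rw [← this]; exact h9
  subst hσ1
  refine ⟨A, by rw [map_one, mul_one], ?_⟩
  rw [NA_one] at hr
  have hr0 : r ≠ 0 := by
    rintro rfl
    have h2 : ((A ^ 9 : GL (Fin 3) F) : Matrix (Fin 3) (Fin 3) F).det = 0 := by
      rw [← hr]; simp
    have h3 := (A ^ 9 : GL (Fin 3) F).isUnit
    rw [Matrix.isUnit_iff_isUnit_det, h2] at h3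
    exact not_isUnit_zero h3
  have hr3 := pow_three hF hr0
  have h4 : A ^ 3 ^ 3 = (A ^ 9) ^ 3 := by rw [← pow_mul]; norm_num
  rw [h4]
  apply Units.ext
  rw [Units.val_pow_eq_pow_val, ← hr, ← map_pow, hr3, map_one]; rfl

omit [Fintype F] in
/-- elements of `SL` which are not diagonal are not in the kernel of the projection to `PSL` -/
theorem pr_ne_one {b : Matrix.SpecialLinearGroup (Fin 3) F} {i j : Fin 3} (hij : i ≠ j)
    (h : (b : Matrix (Fin 3) (Fin 3) F) i j ≠ 0) : pr b ≠ 1 := by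
  intro h1
  rw [pr_eq_one_iff, Matrix.SpecialLinearGroup.mem_center_iff] at h1
  obtain ⟨r, _, hr⟩ := h1
  apply h
  rw [← hr, scalar_apply, diagonal_apply_ne _ hij]

/-- The elements of order dividing nine of a group with a normal subgroup `L₃(4)`. -/
theorem l34_nine {Γ : Type*} [Group Γ] {S : Subgroup Γ} (hn : S.Normal)
    (hc : Subgroup.centralizer (S : Set Γ) = ⊥) (hF : Fintype.card F = 4)
    (e : S ≃* Matrix.ProjectiveSpecialLinearGroup (Fin 3) F) (g : Γ) (hg : g ^ 9 = 1) :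
    (g ∈ S ∧ g ^ 3 = 1 ∧ ∃ s ∈ S, s * g * s⁻¹ = g⁻¹) ∨
      ∃ f ∈ S, g * f = f * g ∧ (orderOf f = 5 ∨ orderOf f = 7) := by
  have hα : (MulAut.congr e (MulAut.conjNormal g)) ^ 9 = 1 := by
    rw [← map_pow, ← map_pow, hg, map_one, map_one]
  obtain ⟨A, hA, hA27⟩ := exists_cj hF hα
  obtain ⟨P, hP⟩ := exists_typ hF A hA27
  obtain ⟨M, hM⟩ : ∃ M, M = P * A * P⁻¹ := ⟨_, rfl⟩
  rw [← hM] at hP
  let e' : S ≃* Matrix.ProjectiveSpecialLinearGroup (Fin 3) F := e.trans (lift (cj P))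
  have key : ∀ s : S, e' ⟨g * s * g⁻¹, hn.conj_mem s s.2 g⟩ = lift (cj M) (e' s) := by
    intro s
    have h1 : (MulAut.congr e (MulAut.conjNormal g)) (e s) = e ⟨g * s * g⁻¹, hn.conj_mem s s.2 g⟩ := by
      change e (MulAut.conjNormal g (e.symm (e s))) = _
      rw [e.symm_apply_apply]
      congr 1
    rw [hA] at h1
    change lift (cj P) (e ⟨g * s * g⁻¹, hn.conj_mem s s.2 g⟩) = lift (cj M) (lift (cj P) (e s))
    rw [← h1, hM, map_mul, map_mul, map_mul, map_mul]
    simp only [MulAut.mul_apply, map_inv, MulAut.inv_apply_self]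
  -- elements acting in the same way are equal
  have hEq : ∀ k : Γ, k ∈ S → (∀ s : S, e' ⟨g * s * g⁻¹, hn.conj_mem s s.2 g⟩ =
      e' ⟨k * s * k⁻¹, hn.conj_mem s s.2 k⟩) → g = k := by
    intro k _ hk
    have h1 : k⁻¹ * g ∈ Subgroup.centralizer (S : Set Γ) := by
      rw [Subgroup.mem_centralizer_iff]
      intro s hs
      have h2 : g * s * g⁻¹ = k * s * k⁻¹ := congrArg Subtype.val (e'.injective (hk ⟨s, hs⟩))
      calc s * (k⁻¹ * g) = k⁻¹ * (k * s * k⁻¹) * g := by group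
        _ = k⁻¹ * (g * s * g⁻¹) * g := by rw [h2]
        _ = k⁻¹ * g * s := by group
    rw [hc, Subgroup.mem_bot, inv_mul_eq_one] at h1
    exact h1.symm
  have hMi : ((M : Matrix (Fin 3) (Fin 3) F)) * ((M⁻¹ : GL (Fin 3) F) : Matrix (Fin 3) (Fin 3) F) = 1 := by
    rw [← Units.val_mul, mul_inv_cancel, Units.val_one]
  have hcomm : ∀ (B : Matrix (Fin 3) (Fin 3) F) (hB : B.det = 1) (p : ℕ) (hp : p.Prime),
      (M : Matrix (Fin 3) (Fin 3) F) * B = B * M → B ^ p = 1 → ∀ i j : Fin 3, i ≠ j → B i j ≠ 0 →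
      ∃ f ∈ S, g * f = f * g ∧ orderOf f = p := by
    intro B hB p hp hMB hBp i j hij hne
    let b : Matrix.SpecialLinearGroup (Fin 3) F := ⟨B, hB⟩
    let f : S := e'.symm (pr b)
    refine ⟨f, f.2, ?_, ?_⟩
    · have h1 := key f
      have h2 : e' f = pr b := e'.apply_symm_apply _
      have h3 : cj M b = b := by
        apply Subtype.ext
        rw [coe_cj]
        change (M : Matrix (Fin 3) (Fin 3) F) * B * _ = B
        rw [hMB, mul_assoc, hMi, mul_one]
      rw [h2, lift_pr, h3, ← h2] at h1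
      have h4 := congrArg Subtype.val (e'.injective h1)
      exact mul_inv_eq_iff_eq_mul.1 h4
    · rw [Subgroup.orderOf_coe, MulEquiv.orderOf_eq]
      have := Fact.mk hp
      apply orderOf_eq_prime
      · rw [← map_pow]
        have : b ^ p = 1 := Subtype.ext hBp
        rw [this, map_one]
      · exact pr_ne_one hij hne
  rcases hP with ⟨a, h⟩ | ⟨h1, h3, B, hB, h⟩ | ⟨B, hB, h, h5, i, j, hij, hne⟩ | ⟨B, hB, h, h5, i, j, hij, hne⟩
  · left
    have hg1 : g = 1 := by
      apply hEq 1 S.one_mem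
      intro s
      rw [key, cj_eq_one_of_scalar (r := a) (by rw [h, scalar_apply, ← smul_one_eq_diagonal]), map_one]
      change e' s = _
      congr 1
      apply Subtype.ext
      simp
    rw [hg1]
    exact ⟨S.one_mem, one_pow _, 1, S.one_mem, by simp⟩
  · left
    let m : Matrix.SpecialLinearGroup (Fin 3) F := ⟨M, h1⟩
    let b : Matrix.SpecialLinearGroup (Fin 3) F := ⟨B, hB⟩
    let k : S := e'.symm (pr m)
    have hek : e' k = pr m := e'.apply_symm_apply _
    have hgk : g = k := by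
      apply hEq k k.2
      intro s
      rw [key]
      have h2 : (⟨k * s * (k : Γ)⁻¹, hn.conj_mem s s.2 k⟩ : S) = k * s * k⁻¹ := rfl
      rw [h2, map_mul, map_mul, map_inv, hek]
      obtain ⟨y, hy⟩ := pr_surjective (e' s)
      rw [← hy, lift_pr, ← map_mul, ← map_inv, ← map_mul]
      congr 1
      apply Subtype.ext
      rw [coe_cj]
      have h4 : ((M⁻¹ : GL (Fin 3) F) : Matrix (Fin 3) (Fin 3) F) = ((m⁻¹ : Matrix.SpecialLinearGroup (Fin 3) F) :
          Matrix (Fin 3) (Fin 3) F) := by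
        symm
        apply Units.eq_inv_of_mul_eq_one_left
        change ((m * m⁻¹ : Matrix.SpecialLinearGroup (Fin 3) F) : Matrix (Fin 3) (Fin 3) F) = 1
        rw [mul_inv_cancel]; rfl
      rw [h4]; rfl
    refine ⟨by rw [hgk]; exact k.2, ?_, (e'.symm (pr b) : S), (e'.symm (pr b) : S).2, ?_⟩
    · rw [hgk]
      have : k ^ 3 = 1 := by
        apply e'.injective
        rw [map_pow, hek, ← map_pow, map_one]
        have h2 : m ^ 3 = 1 := Subtype.ext h3
        rw [h2, map_one]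
      exact congrArg Subtype.val this
    · rw [hgk]
      have : (e'.symm (pr b)) * k * (e'.symm (pr b))⁻¹ = k⁻¹ := by
        apply e'.injective
        rw [map_mul, map_mul, map_inv, map_inv, e'.apply_symm_apply, hek, ← map_mul, ← map_inv, ← map_mul, ← map_inv]
        congr 1
        rw [mul_inv_eq_iff_eq_mul]
        have h2 : m * b * m = b := Subtype.ext h
        rw [eq_inv_mul_iff_mul_eq, ← mul_assoc]
        exact h2
      exact congrArg Subtype.val this
  · right
    obtain ⟨f, hf, h6, h7⟩ := hcomm B hB 5 (by norm_num) h h5 i j hij hne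
    exact ⟨f, hf, h6, Or.inl h7⟩
  · right
    obtain ⟨f, hf, h6, h7⟩ := hcomm B hB 7 (by norm_num) h h5 i j hij hne
    exact ⟨f, hf, h6, Or.inr h7⟩

def c2 : Matrix.SpecialLinearGroup (Fin 3) (ZMod 2) := ⟨!![0, 0, 1; 1, 0, 1; 0, 1, 0], by decide⟩
def z2 : Matrix.SpecialLinearGroup (Fin 3) (ZMod 2) := ⟨!![1, 0, 0; 0, 0, 1; 0, 1, 1], by decide⟩

theorem c2_pow : c2 ^ 7 = 1 := by
  apply Subtype.ext
  decide +kernel

theorem z2_c2 : z2 * c2 = c2 ^ 2 * z2 := by
  apply Subtype.ext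
  decide +kernel

variable {G : Type*} [Group G] [Finite G] {R : Subgroup G} [R.Normal] {S : Subgroup (G ⧸ R)}

/-- `S ≅ L₃(4)` is impossible. -/
theorem Ctx.case_L34 (h : Ctx G R S) (h2 : ¬ 2 ∣ Nat.card R) (hF : Fintype.card F = 4)
    (hcard : Nat.card S = 20160)
    (e : S ≃* Matrix.ProjectiveSpecialLinearGroup (Fin 3) F) : False := by
  have h20 := two_eq hF
  have hch : CharP F 2 := CharTwo.of_one_ne_zero_of_two_eq_zero one_ne_zero h20
  let f : Matrix.SpecialLinearGroup (Fin 3) (ZMod 2) →* Matrix.ProjectiveSpecialLinearGroup (Fin 3) F :=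
    pr.comp (Matrix.SpecialLinearGroup.map (ZMod.castHom (dvd_refl 2) F))
  let x' : G ⧸ R := (e.symm (f c2) : S)
  let z' : G ⧸ R := (e.symm (f z2) : S)
  have hx'S : x' ∈ S := (e.symm (f c2) : S).2
  have hxo : orderOf x' = 7 := by
    change orderOf ((e.symm (f c2) : S) : G ⧸ R) = 7
    rw [Subgroup.orderOf_coe, MulEquiv.orderOf_eq]
    have := Fact.mk (show Nat.Prime 7 by norm_num)
    apply orderOf_eq_prime
    · rw [← map_pow, c2_pow, map_one]
    · apply pr_ne_one (i := 1) (j := 0) (by decide)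
      change (ZMod.castHom (dvd_refl 2) F) ((c2 : Matrix (Fin 3) (Fin 3) (ZMod 2)) 1 0) ≠ 0
      have : (c2 : Matrix (Fin 3) (Fin 3) (ZMod 2)) 1 0 = 1 := rfl
      rw [this, map_one]
      exact one_ne_zero
  have hzx : z' * x' * z'⁻¹ = x' ^ 2 := by
    have h3 : e.symm (f z2) * e.symm (f c2) * (e.symm (f z2))⁻¹ = e.symm (f c2) ^ 2 := by
      rw [mul_inv_eq_iff_eq_mul, ← map_pow, ← map_mul, ← map_mul, ← map_mul, ← map_pow, ← map_mul, z2_c2]
    exact congrArg Subtype.val h3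
  have h49 : ¬ 49 ∣ Nat.card S := by rw [hcard]; decide
  have hidx : 2 ∣ S.index := by
    have h3 := h.two_Q h2
    rw [← S.card_mul_index, hcard, show (20160 : ℕ) = 2 ^ 6 * 315 by norm_num, mul_assoc] at h3
    have h4 : 2 ∣ 315 * S.index := by
      have : 2 ^ 6 * 2 ∣ 2 ^ 6 * (315 * S.index) := by
        have h5 : (2 : ℕ) ^ 6 * 2 = 2 ^ 7 := by norm_num
        rw [h5]; exact h3
      exact Nat.dvd_of_mul_dvd_mul_left (by norm_num) this
    exact Nat.Coprime.dvd_of_dvd_mul_left (by norm_num) h4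
  obtain ⟨t, ht⟩ := h.exists_inv h49 hx'S hxo hidx
  -- an element inducing an automorphism of order six
  let u := t * z'
  have hu : u * x' * u⁻¹ = x' ^ 5 := by
    have h3 : u * x' * u⁻¹ = t * (z' * x' * z'⁻¹) * t⁻¹ := by change (t * z') * x' * (t * z')⁻¹ = _; group
    rw [h3, hzx, ← conj_pow, ht, inv_pow, inv_eq_iff_mul_eq_one, ← pow_add, show 2 + 5 = 7 from rfl, ← hxo]
    exact pow_orderOf_eq_one x'
  have hy : u ^ 5 * x' * (u ^ 5)⁻¹ = x' ^ 3 := by
    have h3 : ∀ i : ℕ, u ^ i * x' * (u ^ i)⁻¹ = x' ^ 5 ^ i := by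
      intro i
      induction i with
      | zero => simp
      | succ i ih =>
        have h1 : u ^ (i + 1) * x' * (u ^ (i + 1))⁻¹ = u * (u ^ i * x' * (u ^ i)⁻¹) * u⁻¹ := by
          rw [pow_succ']; group
        rw [h1, ih, ← conj_pow, hu, ← pow_mul]
        congr 1
        rw [pow_succ]; ring
    rw [h3]
    have h8 : 5 ^ 5 % 7 = 3 % 7 := by norm_num
    rw [← pow_mod_orderOf, hxo, h8]
  obtain ⟨x, y, hxx, hx, hyx'⟩ := lift_frob R h.seven_R hxo hy
  have hcen := central h.om R h.solv h.seven_R h2 hx hyx'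
  have hR3 := pow_three_of_central h.om R h.seven_R h2 hx hcen
  have hxR : x ∉ R := by
    intro hxR
    have : x' = 1 := by rw [← hxx]; exact (QuotientGroup.eq_one_iff x).2 hxR
    rw [this, orderOf_one] at hxo
    norm_num at hxo
  have hSC := le_map_centralizer R h.norm h.simp h.cent hxR hcen
  obtain ⟨g, hg⟩ := h.o9
  exact false_of_nine h.om R hR3 hSC (fun v hv => l34_nine h.norm h.cent hF e v hv) hg

end Cfsg.Agent.H380.TenRec
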