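import Cfsg.Agent.H380.TenRec.Ctx
import Cfsg.Agent.OddHalf.D6.QThree.U43Tw

/-! The case `S ≅ U₄(3)`. -/

set_option autoImplicit false

namespace Cfsg.Agent.H380.TenRec

open Cfsg Cfsg.Agent.LargeExtra.W2.U43 Cfsg.Agent.LargeExtra.W2.CM Cfsg.Agent.OddHalf.D6.QThree

theorem char_three {F : Type*} [Field F] [Fintype F] (hF : Fintype.card F = 9) : CharP F 3 := by
  obtain ⟨p, hp⟩ := CharP.exists F
  have h1 : ((9 : ℕ) : F) = 0 := by rw [← hF]; exact FiniteField.cast_card_eq_zero F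
  have hpp : p.Prime := CharP.char_is_prime F p
  have h2 : p ∣ 3 ^ 2 := (CharP.cast_eq_zero_iff F p 9).1 h1
  have h3 : p = 3 := (Nat.prime_dvd_prime_iff_eq hpp Nat.prime_three).1 (hpp.dvd_of_dvd_pow h2)
  subst h3
  exact hp

/-- The facts about `U₄(3)`. -/
theorem tw_facts {X : Type*} [Group X] [Finite X] {Q : Subgroup X} {z i j k l x₁ x₂ y s : X}
    (T : Tw Q z i j k l x₁ x₂ y s) (hcls : ∀ t : X, t * t = 1 → t ≠ 1 → ∃ g, g * z * g⁻¹ = t) :
    (∀ g : X, orderOf g ≠ 10) ∧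
    ∃ a b : X, a ^ 4 = 1 ∧ b ^ 4 = 1 ∧ a * b = b * a ∧ a ^ 2 ≠ 1 ∧ b ^ 2 ≠ 1 ∧ a ^ 2 * b ^ 2 ≠ 1 := by
  have R := T.rules
  have hz : z ≠ 1 := T.large.z_ne
  have hv : i * j * k * l * i = z * (i * (i * j * k * l)) := by coll R
  have hzi : i * z = z * i := R.zi
  have hb2 : (k * l * s) * (k * l * s) = i * j * k * l := by coll R
  have hn1 : i * j * k * l ≠ 1 := by
    intro h
    rw [h, one_mul, mul_one] at hv
    exact hz (mul_eq_right.1 hv.symm)
  have hn2 : z * (i * j * k * l) ≠ 1 := by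
    intro h
    have h1 : i * j * k * l = z := by
      have h3 := R.zz
      calc i * j * k * l = z * (z * (i * j * k * l)) := by rw [← mul_assoc z z, h3, one_mul]
        _ = z := by rw [h, mul_one]
    rw [h1, hzi] at hv
    have h4 : i = z * i := mul_left_cancel hv
    exact hz (mul_eq_right.1 h4.symm)
  constructor
  · intro g hg
    have h5 : orderOf (g ^ 5) = 2 := by rw [orderOf_pow_of_dvd (by norm_num) (by rw [hg]; norm_num), hg]
    have h2 : orderOf (g ^ 2) = 5 := by rw [orderOf_pow_of_dvd (by norm_num) (by rw [hg]; norm_num), hg]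
    obtain ⟨c, hc⟩ := hcls (g ^ 5) (by rw [← pow_two, ← h5]; exact pow_orderOf_eq_one _)
      (fun h => by rw [h, orderOf_one] at h5; norm_num at h5)
    have h6 : c⁻¹ * g ^ 2 * c ∈ Subgroup.centralizer ({z} : Set X) := by
      rw [Subgroup.mem_centralizer_singleton_iff]
      have h7 : g ^ 2 * g ^ 5 = g ^ 5 * g ^ 2 := by rw [← pow_add, ← pow_add]
      have h8 : z = c⁻¹ * g ^ 5 * c := by rw [← hc]; group
      rw [h8]
      calc c⁻¹ * g ^ 2 * c * (c⁻¹ * g ^ 5 * c) = c⁻¹ * (g ^ 2 * g ^ 5) * c := by group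
        _ = c⁻¹ * g ^ 5 * c * (c⁻¹ * g ^ 2 * c) := by rw [h7]; group
    have h7 := Subgroup.orderOf_dvd_natCard _ h6
    rw [T.card_cent] at h7
    have h8 : orderOf (c⁻¹ * g ^ 2 * c) = 5 := by
      have h9 : orderOf ((MulAut.conj c⁻¹) (g ^ 2)) = orderOf (g ^ 2) := MulEquiv.orderOf_eq _ _
      rw [MulAut.conj_apply, inv_inv, h2] at h9
      exact h9
    rw [h8] at h7
    norm_num at h7
  · refine ⟨y, k * l * s, ?_, ?_, ?_, ?_, ?_, ?_⟩
    · rw [show y ^ 4 = y * y * (y * y) by simp only [pow_succ, pow_zero, one_mul, mul_assoc], T.yz]; exact R.zz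
    · rw [show (k * l * s) ^ 4 = (k * l * s) * (k * l * s) * ((k * l * s) * (k * l * s)) by
        simp only [pow_succ, pow_zero, one_mul, mul_assoc], hb2]
      coll R
    · coll R
    · rw [pow_two, T.yz]; exact hz
    · rw [pow_two, hb2]; exact hn1
    · rw [pow_two, pow_two, T.yz, hb2]; exact hn2

variable {F : Type} [Field F] [Fintype F]

theorem u43_facts (hF : Fintype.card F = 9) : (∀ g : PSU 4 F 3, orderOf g ≠ 10) ∧
    ∃ a b : PSU 4 F 3, a ^ 4 = 1 ∧ b ^ 4 = 1 ∧ a * b = b * a ∧ a ^ 2 ≠ 1 ∧ b ^ 2 ≠ 1 ∧ a ^ 2 * b ^ 2 ≠ 1 := by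
  have := char_three hF
  obtain ⟨i, j, k, l, x₁, x₂, y, s, T, -, -⟩ := U43Tw.exists_tw (F := F) hF
  exact tw_facts T (U43Tw.one_class hF)

variable {G : Type*} [Group G] [Finite G] {R : Subgroup G} [R.Normal] {S : Subgroup (G ⧸ R)}

/-- `S ≅ U₄(3)` is impossible. -/
theorem Ctx.case_U43 (h : Ctx G R S) (h2 : ¬ 2 ∣ Nat.card R) (hF : Fintype.card F = 9)
    (hcard : Nat.card S = 3265920) (e : S ≃* PSU 4 F 3) : False := by
  classical
  obtain ⟨h10, a0, b0, ha4, hb4, hab, ha2, hb2, hab2⟩ := u43_facts hF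
  have h49 : ¬ 49 ∣ Nat.card S := by rw [hcard]; decide
  have h7S : 7 ∣ Nat.card S := by rw [hcard]; decide
  have hp7 : Fact (Nat.Prime 7) := ⟨by norm_num⟩
  obtain ⟨x0, hx0⟩ := exists_prime_orderOf_dvd_card' 7 h7S
  have hxo : orderOf (x0 : G ⧸ R) = 7 := by rw [Subgroup.orderOf_coe, hx0]
  have hidx2 : ¬ 2 ∣ S.index := by
    intro hd
    apply h.two_Q'
    rw [← S.card_mul_index, hcard]
    exact mul_dvd_mul (show 2 ^ 7 ∣ 3265920 by norm_num) hd
  have hidx5 := h.index_five h49 x0.2 hxo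
  -- lift `a`, `b`
  let a' : G ⧸ R := (e.symm a0 : S)
  let b' : G ⧸ R := (e.symm b0 : S)
  have hco : ∀ (u v : S), ((u * v : S) : G ⧸ R) = (u : G ⧸ R) * v := fun _ _ => rfl
  have ha4' : a' ^ 4 = 1 := by
    have : (e.symm a0) ^ 4 = 1 := by rw [← map_pow, ha4, map_one]
    exact congrArg Subtype.val this
  have hb4' : b' ^ 4 = 1 := by
    have : (e.symm b0) ^ 4 = 1 := by rw [← map_pow, hb4, map_one]
    exact congrArg Subtype.val this
  have hab' : a' * b' = b' * a' := by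
    have : e.symm a0 * e.symm b0 = e.symm b0 * e.symm a0 := by rw [← map_mul, hab, map_mul]
    exact congrArg Subtype.val this
  have ha2' : a' ^ 2 ≠ 1 := by
    intro h1
    apply ha2
    have h3 : (e.symm a0) ^ 2 = 1 := Subtype.ext h1
    apply e.symm.injective
    rw [map_pow, h3, map_one]
  have hb2' : b' ^ 2 ≠ 1 := by
    intro h1
    apply hb2
    have h3 : (e.symm b0) ^ 2 = 1 := Subtype.ext h1
    apply e.symm.injective
    rw [map_pow, h3, map_one]
  have hab2' : a' ^ 2 * b' ^ 2 ≠ 1 := by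
    intro h1
    apply hab2
    have h3 : (e.symm a0) ^ 2 * (e.symm b0) ^ 2 = 1 := Subtype.ext h1
    apply e.symm.injective
    rw [map_mul, map_pow, map_pow, h3, map_one]
  -- the group generated by `a'`, `b'` is a 2-group
  have hTp : IsPGroup 2 (Subgroup.closure ({a', b'} : Set (G ⧸ R))) := by
    have hcm : IsMulCommutative (Subgroup.closure ({a', b'} : Set (G ⧸ R))) := Subgroup.isMulCommutative_closure (by
      intro u hu v hv
      rcases hu with rfl | rfl <;> rcases hv with rfl | rfl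
      · rfl
      · exact hab'
      · exact hab'.symm
      · rfl)
    intro g
    refine ⟨2, ?_⟩
    apply Subtype.ext
    rw [Subgroup.coe_pow, Subgroup.coe_one]
    obtain ⟨g, hg⟩ := g
    change g ^ 2 ^ 2 = 1
    induction hg using Subgroup.closure_induction with
    | mem x hx =>
      rcases hx with rfl | rfl
      · exact ha4'
      · exact hb4'
    | one => exact one_pow _
    | mul x y hx hy ihx ihy =>
      have hc : Commute x y := by
        have := hcm.is_comm.comm (⟨x, hx⟩ : Subgroup.closure ({a', b'} : Set (G ⧸ R))) ⟨y, hy⟩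
        exact congrArg Subtype.val this
      rw [hc.mul_pow, ihx, ihy, one_mul]
    | inv x _ ih => rw [inv_pow, ih, inv_one]
  obtain ⟨P, hPp, hP⟩ := exists_lift_two R h2 _ hTp
  have haP : a' ∈ P.map (QuotientGroup.mk' R) := by rw [hP]; exact Subgroup.subset_closure (Or.inl rfl)
  have hbP : b' ∈ P.map (QuotientGroup.mk' R) := by rw [hP]; exact Subgroup.subset_closure (Or.inr rfl)
  obtain ⟨a, ha, haa⟩ := haP
  obtain ⟨b, hb, hbb⟩ := hbP
  have hker : ∀ t ∈ P, QuotientGroup.mk' R t = 1 → t = 1 := by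
    intro t ht h1
    have h3 : t ∈ R := (QuotientGroup.eq_one_iff t).1 h1
    obtain ⟨n, hn⟩ := hPp ⟨t, ht⟩
    exact eq_one_of_two_elt R h2 h3 (k := n) (congrArg Subtype.val hn)
  have hA4 : a ^ 4 = 1 := hker _ (P.pow_mem ha 4) (by rw [map_pow, haa, ha4'])
  have hB4 : b ^ 4 = 1 := hker _ (P.pow_mem hb 4) (by rw [map_pow, hbb, hb4'])
  have hAB : a * b = b * a := by
    have h1 : a * b * (b * a)⁻¹ = 1 := hker _ (P.mul_mem (P.mul_mem ha hb) (P.inv_mem (P.mul_mem hb ha))) (by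
      rw [map_mul, map_inv, map_mul, map_mul, haa, hbb, hab', mul_inv_cancel])
    exact mul_inv_eq_one.1 h1
  have hB2 : b ^ 2 ≠ 1 := by
    intro h1
    apply hb2'
    rw [← hbb, ← map_pow, h1, map_one]
  have hA2 : a ^ 2 ∉ R := by
    intro h1
    apply ha2'
    rw [← haa, ← map_pow]
    exact (QuotientGroup.eq_one_iff _).2 h1
  have hAB2 : a ^ 2 * b ^ 2 ≠ 1 := by
    intro h1
    apply hab2'
    rw [← haa, ← hbb, ← map_pow, ← map_pow, ← map_mul, h1, map_one]
  have h5R : ¬ 5 ∣ Nat.card R := by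
    apply five_free h.om R h.solv h2 hA4 hB4 hAB hB2 hAB2 h.seven_R
    intro N hN haN
    by_contra hN7
    exact hA2 (h.le_R h7S N hN hN7 haN)
  -- an element of order ten
  obtain ⟨g, hg⟩ := h.o10
  let g' := QuotientGroup.mk' R g
  have hg' : orderOf g' = 10 := by
    have h1 : orderOf g' ∣ 10 := by rw [← hg]; exact orderOf_map_dvd _ g
    have key : ∀ m, m ∣ 10 → m = 10 ∨ m ∣ 5 ∨ m ∣ 2 := by
      intro m hm
      have hm' : m ≤ 10 := Nat.le_of_dvd (by norm_num) hm
      interval_cases m <;> revert hm <;> decide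
    rcases key _ h1 with h3 | h3 | h3
    · exact h3
    · exfalso
      have h4 : g ^ 5 ∈ R := by
        rw [← QuotientGroup.eq_one_iff]
        exact orderOf_dvd_iff_pow_eq_one.1 h3
      have h5 : orderOf (g ^ 5) = 2 := by rw [orderOf_pow_of_dvd (by norm_num) (by rw [hg]; norm_num), hg]
      apply h2
      rw [← h5]
      exact Subgroup.orderOf_dvd_natCard R h4
    · exfalso
      have h4 : g ^ 2 ∈ R := by
        rw [← QuotientGroup.eq_one_iff]
        exact orderOf_dvd_iff_pow_eq_one.1 h3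
      have h5 : orderOf (g ^ 2) = 5 := by rw [orderOf_pow_of_dvd (by norm_num) (by rw [hg]; norm_num), hg]
      apply h5R
      rw [← h5]
      exact Subgroup.orderOf_dvd_natCard R h4
  have hgS : g' ∈ S := by
    have := h.norm
    have h1 : orderOf (QuotientGroup.mk' S g') ∣ 10 := by rw [← hg']; exact orderOf_map_dvd _ g'
    have h3 : orderOf (QuotientGroup.mk' S g') ∣ S.index := orderOf_dvd_natCard _
    have h4 : Nat.Coprime 10 S.index := by
      rw [show 10 = 2 * 5 from rfl]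
      exact Nat.Coprime.mul_left ((Nat.Prime.coprime_iff_not_dvd Nat.prime_two).2 hidx2)
        ((Nat.Prime.coprime_iff_not_dvd (by norm_num)).2 hidx5)
    have h5 := Nat.eq_one_of_dvd_coprimes h4 h1 h3
    exact (QuotientGroup.eq_one_iff g').1 (orderOf_eq_one_iff.1 h5)
  apply h10 (e ⟨g', hgS⟩)
  rw [MulEquiv.orderOf_eq, ← Subgroup.orderOf_coe]
  exact hg'

end Cfsg.Agent.H380.TenRec
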