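import Cfsg.Agent.H380.TenRec.Tools2

/-! The element of order seven centralizes the solvable radical. -/

set_option autoImplicit false

namespace Cfsg.Agent.H380.TenRec

variable {G : Type*} [Group G]

theorem pow_conj_pow {x y : G} (h : y * x * y⁻¹ = x ^ 3) (i : ℕ) : y ^ i * x * (y ^ i)⁻¹ = x ^ 3 ^ i := by
  induction i with
  | zero => simp
  | succ i ih =>
    have h1 : y ^ (i + 1) * x * (y ^ (i + 1))⁻¹ = y * (y ^ i * x * (y ^ i)⁻¹) * y⁻¹ := by
      rw [pow_succ']; group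
    rw [h1, ih, ← conj_pow, h, ← pow_mul]
    congr 1
    rw [pow_succ]; ring

theorem six_dvd_of_pow {n : ℕ} (h : 7 ∣ 3 ^ n - 1) : 6 ∣ n := by
  have h0 : 3 ^ n % 7 = 1 := by
    have h1 : 1 ≤ 3 ^ n := Nat.one_le_pow _ _ (by norm_num)
    omega
  have h1 : 3 ^ n % 7 = 3 ^ (n % 6) % 7 := by
    conv_lhs => rw [← Nat.div_add_mod n 6, pow_add, pow_mul]
    rw [Nat.mul_mod, Nat.pow_mod]
    norm_num
  rw [h1] at h0
  have h2 : n % 6 < 6 := Nat.mod_lt _ (by norm_num)
  obtain ⟨r, hr⟩ : ∃ r, r = n % 6 := ⟨_, rfl⟩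
  rw [← hr] at h0 h2
  interval_cases r
  · omega
  all_goals norm_num at h0

theorem pow_sub_one_eq {x : G} {m : ℕ} (h : x ^ 3 ^ m = x) : x ^ (3 ^ m - 1) = 1 := by
  have h1 : 1 ≤ 3 ^ m := Nat.one_le_pow _ _ (by norm_num)
  have h2 : x ^ (3 ^ m - 1) * x = x := by
    rw [← pow_succ, Nat.sub_add_cancel h1, h]
  exact mul_eq_right.1 h2

/-- `6` divides the order of `y`. -/
theorem six_dvd_of_comm {x y : G} (hx : orderOf x = 7) (h : y * x * y⁻¹ = x ^ 3) {m : ℕ}
    (hm : y ^ m * x = x * y ^ m) : 6 ∣ m := by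
  apply six_dvd_of_pow
  rw [← hx]
  apply orderOf_dvd_of_pow_eq_one
  apply pow_sub_one_eq
  rw [← pow_conj_pow h, hm, mul_inv_cancel_right]

/-- The order of `y` is six. -/
theorem pow_six_of_om (hO : Om G) {x y : G} (hx : orderOf x = 7) (h : y * x * y⁻¹ = x ^ 3) : y ^ 6 = 1 := by
  have h1 : 6 ∣ orderOf y := six_dvd_of_comm hx h (by rw [pow_orderOf_eq_one]; simp)
  have h2 : ∀ n ∈ L, 6 ∣ n → n = 6 ∨ n = 12 := by decide
  rcases h2 _ (hO y) h1 with h3 | h3
  · rw [← h3]; exact pow_orderOf_eq_one y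
  · exfalso
    have h4 : orderOf (y ^ 6) = 2 := by
      rw [orderOf_pow_of_dvd (by norm_num) (by rw [h3]; norm_num), h3]
    have h5 : Commute (y ^ 6) x := by
      have h6 := pow_conj_pow h 6
      have h7 : x ^ 3 ^ 6 = x := by
        have h8 : 3 ^ 6 % 7 = 1 % 7 := by norm_num
        rw [← pow_mod_orderOf, hx, h8]; simp
      rw [h7, mul_inv_eq_iff_eq_mul] at h6
      exact h6
    exact hO.false_of_commute h5 (m := 2) (n := 7) (by rw [h4]) (by rw [hx]) (by norm_num) (by decide)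

/-- Lifting an element of order seven together with an element inducing an automorphism of order six. -/
theorem lift_frob [Finite G] (R : Subgroup G) [R.Normal] (h7 : ¬ 7 ∣ Nat.card R) {x' y' : G ⧸ R}
    (hx : orderOf x' = 7) (hy : y' * x' * y'⁻¹ = x' ^ 3) :
    ∃ x y : G, QuotientGroup.mk' R x = x' ∧ orderOf x = 7 ∧ y * x * y⁻¹ = x ^ 3 := by
  classical
  have hp7 : Nat.Prime 7 := by norm_num
  have := Fact.mk hp7
  let π := QuotientGroup.mk' R
  have hπs : Function.Surjective π := QuotientGroup.mk'_surjective R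
  obtain ⟨y0, hy0⟩ := hπs y'
  obtain ⟨x0, hx0⟩ := hπs x'
  -- an element of order seven above `x'`
  have h1 : 7 ∣ orderOf x0 := by
    rw [← hx, ← hx0]; exact orderOf_map_dvd π x0
  let m := orderOf x0 / 7
  have hm : orderOf x0 = 7 * m := (Nat.mul_div_cancel' h1).symm
  have hm0 : m ≠ 0 := by
    intro h0
    rw [h0, mul_zero] at hm
    exact (orderOf_pos x0).ne' hm
  have hm7 : ¬ 7 ∣ m := by
    intro hd
    have h2 : x0 ^ 7 ∈ R := by
      rw [← QuotientGroup.eq_one_iff]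
      change π (x0 ^ 7) = 1
      rw [map_pow, hx0, ← hx, pow_orderOf_eq_one]
    have h3 : orderOf (x0 ^ 7) = m := by
      rw [orderOf_pow_of_dvd (by norm_num) h1]
    apply h7
    have h4 := Subgroup.orderOf_dvd_natCard R h2
    rw [h3] at h4
    exact hd.trans h4
  -- `x0 ^ (m * k)` with `m * k = 1 mod 7`
  have hcop : m.Coprime 7 := ((Nat.Prime.coprime_iff_not_dvd hp7).2 hm7).symm
  obtain ⟨k, hk⟩ : ∃ k, m * k % 7 = 1 := by
    obtain ⟨k, hk⟩ := Nat.exists_mul_mod_eq_one_of_coprime hcop (by norm_num)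
    exact ⟨k, hk.2⟩
  let x := x0 ^ (m * k)
  have hxx : π x = x' := by
    change π (x0 ^ (m * k)) = x'
    rw [map_pow, hx0, ← pow_mod_orderOf, hx, hk, pow_one]
  have hx7 : orderOf x = 7 := by
    have h2 : x ^ 7 = 1 := by
      change (x0 ^ (m * k)) ^ 7 = 1
      rw [← pow_mul, show m * k * 7 = (7 * m) * k by ring, ← hm, pow_mul, pow_orderOf_eq_one, one_pow]
    rcases (Nat.dvd_prime hp7).1 (orderOf_dvd_of_pow_eq_one h2) with h | h
    · exfalso
      rw [orderOf_eq_one_iff] at h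
      rw [h, map_one] at hxx
      rw [← hxx, orderOf_one] at hx
      norm_num at hx
    · exact h
  -- Frattini argument
  let H := (Subgroup.zpowers x').comap π
  have hH : Nat.card H = 7 * Nat.card R := by
    rw [show Nat.card H = _ from card_comap_mk R (Subgroup.zpowers x'), Nat.card_zpowers, hx]
  have hxH : x ∈ H := by
    change π x ∈ Subgroup.zpowers x'
    rw [hxx]; exact Subgroup.mem_zpowers _
  have hxH' : y0 * x * y0⁻¹ ∈ H := by
    change π (y0 * x * y0⁻¹) ∈ Subgroup.zpowers x'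
    rw [map_mul, map_mul, map_inv, hxx, hy0, hy]
    exact Subgroup.pow_mem _ (Subgroup.mem_zpowers _) 3
  have hfac : (Nat.card H).factorization 7 = 1 := by
    rw [hH, Nat.factorization_mul (by norm_num) (Nat.card_pos.ne'), Finsupp.add_apply,
      Nat.Prime.factorization_self hp7, Nat.factorization_eq_zero_of_not_dvd h7]
  have hsyl : ∀ u : H, orderOf (u : G) = 7 → ∃ P : Sylow 7 H, (P : Subgroup H) = Subgroup.zpowers u := by
    intro u hu
    have h2 : Nat.card (Subgroup.zpowers u) = 7 ^ (Nat.card H).factorization 7 := by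
      rw [hfac, Nat.card_zpowers, ← Subgroup.orderOf_coe, hu, pow_one]
    exact ⟨Sylow.ofCard _ h2, rfl⟩
  obtain ⟨P, hP⟩ := hsyl ⟨x, hxH⟩ hx7
  obtain ⟨Q, hQ⟩ := hsyl ⟨y0 * x * y0⁻¹, hxH'⟩ (by
    change orderOf (y0 * x * y0⁻¹) = 7
    rw [← hx7]
    exact (MulAut.conj y0).orderOf_eq x)
  obtain ⟨g, hg⟩ := MulAction.exists_smul_eq H Q P
  have hgQ : (g : G) * (y0 * x * y0⁻¹) * (g : G)⁻¹ ∈ Subgroup.zpowers x := by
    have h2 : g * ⟨y0 * x * y0⁻¹, hxH'⟩ * g⁻¹ ∈ (P : Subgroup H) := by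
      rw [← hg]
      refine Subgroup.mem_map.2 ⟨⟨y0 * x * y0⁻¹, hxH'⟩, ?_, rfl⟩
      rw [hQ]; exact Subgroup.mem_zpowers _
    rw [hP] at h2
    obtain ⟨j, hj⟩ := Subgroup.mem_zpowers_iff.1 h2
    refine Subgroup.mem_zpowers_iff.2 ⟨j, ?_⟩
    have h3 := congrArg Subtype.val hj
    simpa using h3
  -- `g = x ^ j r`
  have hgx : π (g : G) ∈ Subgroup.zpowers x' := g.2
  refine ⟨x, (g : G) * y0, hxx, hx7, ?_⟩
  have h2 : (g : G) * y0 * x * ((g : G) * y0)⁻¹ = (g : G) * (y0 * x * y0⁻¹) * (g : G)⁻¹ := by group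
  rw [h2]
  obtain ⟨j, hj⟩ := Subgroup.mem_zpowers_iff.1 hgQ
  have h3 : π ((g : G) * (y0 * x * y0⁻¹) * (g : G)⁻¹) = x' ^ 3 := by
    rw [map_mul, map_mul, map_mul, map_mul, map_inv, map_inv, hxx, hy0, hy]
    obtain ⟨i, hi⟩ := Subgroup.mem_zpowers_iff.1 hgx
    rw [← hi, ← zpow_natCast x' 3, ← zpow_add, ← zpow_neg, ← zpow_add]
    congr 1; ring
  rw [← hj] at h3 ⊢
  rw [map_zpow, hxx, ← zpow_natCast x' 3, zpow_eq_zpow_iff_modEq, hx] at h3
  rw [← zpow_natCast x 3, zpow_eq_zpow_iff_modEq, hx7]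
  exact h3

/-- The product formula: `(v y)^m = w y^m` with `w ∈ V`. -/
theorem mul_pow_mem (V : Subgroup G) [hV : V.Normal] {v y : G} (hv : v ∈ V) (m : ℕ) :
    ∃ w ∈ V, (v * y) ^ m = w * y ^ m := by
  induction m with
  | zero => exact ⟨1, V.one_mem, by simp⟩
  | succ m ih =>
    obtain ⟨w, hw, hwm⟩ := ih
    refine ⟨w * (y ^ m * v * (y ^ m)⁻¹), V.mul_mem hw (hV.conj_mem v hv _), ?_⟩
    rw [pow_succ, hwm, pow_succ]
    group

/-- **The element of order seven centralizes a normal `{3,5}`-subgroup**, when the normalizer of the Sylow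
7-subgroup induces an automorphism of order six. -/
theorem central [Finite G] (hO : Om G) (R : Subgroup G) [hRn : R.Normal] (hs : Group.IsSolvable R)
    (h7 : ¬ 7 ∣ Nat.card R) (h2 : ¬ 2 ∣ Nat.card R) {x y : G} (hx : orderOf x = 7)
    (hyx : y * x * y⁻¹ = x ^ 3) : ∀ r ∈ R, x * r = r * x := by
  classical
  have hp7 : Nat.Prime 7 := by norm_num
  have hy6 := pow_six_of_om hO hx hyx
  let A : Set (Subgroup G) := {N | N.Normal ∧ N ≤ R ∧ ∀ r ∈ N, x * r = r * x}
  obtain ⟨M, ⟨hMn, hMR, hMx⟩, hmax⟩ := Set.exists_max_image A (fun N => Nat.card N) (Set.toFinite A)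
    ⟨⊥, inferInstance, bot_le, by
      intro r hr
      rw [Subgroup.mem_bot] at hr
      rw [hr]; simp⟩
  by_cases hMRe : M = R
  · rw [← hMRe]; exact hMx
  exfalso
  let π := QuotientGroup.mk' M
  have hR'n : (R.map π).Normal := Subgroup.Normal.map inferInstance π (QuotientGroup.mk'_surjective M)
  have hR's : Group.IsSolvable (R.map π) := by
    have : Group.IsSolvable R := hs
    exact Group.isSolvable_of_surjective (π.subgroupMap_surjective R)
  have hR'1 : R.map π ≠ ⊥ := by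
    intro h
    apply hMRe
    apply le_antisymm hMR
    intro r hr
    have h3 : π r ∈ R.map π := ⟨r, hr, rfl⟩
    rw [h, Subgroup.mem_bot] at h3
    exact (QuotientGroup.eq_one_iff r).1 h3
  obtain ⟨p, V, hp, hVn, hVR, hV1, hVc, hVp⟩ := exists_normal_elem (R.map π) hR'1 hR's
  have hcard := card_comap_mk M V
  have hcomapR : V.comap π ≤ R := by
    intro r hr
    have h1 : π r ∈ R.map π := hVR hr
    obtain ⟨s, hs, hsr⟩ := h1
    have h3 : s⁻¹ * r ∈ M := by
      rw [← QuotientGroup.eq_one_iff]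
      change π (s⁻¹ * r) = 1
      rw [map_mul, map_inv, hsr, inv_mul_cancel]
    have h4 : r = s * (s⁻¹ * r) := by group
    rw [h4]
    exact R.mul_mem hs (hMR h3)
  obtain ⟨n, hn⟩ := card_eq_pow hp V hVp
  have hn0 : n ≠ 0 := by
    rintro rfl
    rw [pow_zero] at hn
    exact hV1 (Subgroup.card_eq_one.1 hn)
  have hpR : p ∣ Nat.card R := by
    have h3 : Nat.card (V.comap π) ∣ Nat.card R := Subgroup.card_dvd_of_le hcomapR
    rw [hcard, hn] at h3
    exact ((dvd_pow_self p hn0).mul_right _).trans h3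
  have hM7 : ¬ 7 ∣ Nat.card M := fun h => h7 (h.trans (Subgroup.card_dvd_of_le hMR))
  have hX : orderOf (π x) = 7 := orderOf_mk_prime M hp7 hM7 hx
  have hYX : π y * π x * (π y)⁻¹ = π x ^ 3 := by
    rw [← map_mul, ← map_inv, ← map_mul, hyx, map_pow]
  have hY6 : π y ^ 6 = 1 := by rw [← map_pow, hy6, map_one]
  have hp7' : p ≠ 7 := by rintro rfl; exact h7 hpR
  have hp2' : p ≠ 2 := by rintro rfl; exact h2 hpR
  have hp35 : p = 3 ∨ p = 5 := by
    rcases hO.primes hp (hpR.trans (Subgroup.card_subgroup_dvd_card R)) with h | h | h | h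
    · exact absurd h hp2'
    · exact Or.inl h
    · exact Or.inr h
    · exact absurd h hp7'
  have h7V : ¬ 7 ∣ Nat.card V := by
    rw [hn]
    intro h
    exact hp7' ((Nat.prime_dvd_prime_iff_eq hp7 hp).1 (hp7.dvd_of_dvd_pow h)).symm
  have hfr : ∀ i, 0 < i → i < 6 → ∀ z ∈ Subgroup.zpowers (π x), π y ^ i * z * (π y ^ i)⁻¹ = z → z = 1 := by
    intro i hi0 hi6 z hz hc
    by_contra hz1
    obtain ⟨j, hj⟩ := Subgroup.mem_zpowers_iff.1 hz
    -- `π x` is a power of `z`
    have hzo : orderOf z = 7 := by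
      rcases (Nat.dvd_prime hp7).1 (show orderOf z ∣ 7 by
        rw [← hX]; exact orderOf_dvd_of_mem_zpowers hz) with h | h
      · exact absurd (orderOf_eq_one_iff.1 h) hz1
      · exact h
    have hxz : π x ∈ Subgroup.zpowers z := by
      have h3 : Subgroup.zpowers z = Subgroup.zpowers (π x) := by
        apply Subgroup.eq_of_le_of_card_ge
        · rw [Subgroup.zpowers_le]; exact hz
        · rw [Nat.card_zpowers, Nat.card_zpowers, hzo, hX]
      rw [h3]; exact Subgroup.mem_zpowers _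
    obtain ⟨k, hk⟩ := Subgroup.mem_zpowers_iff.1 hxz
    have h4 : π y ^ i * π x = π x * π y ^ i := by
      rw [← mul_inv_eq_iff_eq_mul, ← hk, ← conj_zpow, hc]
    have h5 := six_dvd_of_comm hX hYX h4
    have := Nat.le_of_dvd hi0 h5
    omega
  have hyxZ : ∀ z ∈ Subgroup.zpowers (π x), π y * z * (π y)⁻¹ ∈ Subgroup.zpowers (π x) := by
    intro z hz
    obtain ⟨j, hj⟩ := Subgroup.mem_zpowers_iff.1 hz
    rw [← hj, ← conj_zpow, hYX]
    exact Subgroup.zpow_mem _ (Subgroup.pow_mem _ (Subgroup.mem_zpowers _) 3) j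
  rcases frobenius' V hVc hp7 hX (n := 6) (by norm_num) hY6 (fun v hv => hVn.conj_mem v hv _)
    (fun v hv => hVn.conj_mem v hv _) hyxZ hfr h7V with hcen | ⟨v, hv, hv6, hv6V⟩
  · -- `x` centralizes `V`
    have hcen' : ∀ r ∈ V.comap π, x * r = r * x := by
      intro r hr
      have h3 : π (x * r) = π (r * x) := by
        rw [map_mul, map_mul]; exact hcen (π r) hr
      have h4 : r⁻¹ * x * r * x⁻¹ ∈ M := by
        rw [← QuotientGroup.eq_one_iff]
        change π (r⁻¹ * x * r * x⁻¹) = 1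
        rw [map_mul, mul_assoc, map_mul, h3, ← map_mul, ← map_mul, show r⁻¹ * (r * x) * x⁻¹ = 1 by group,
          map_one]
      obtain ⟨m, hm⟩ : ∃ m, m = r⁻¹ * x * r * x⁻¹ := ⟨_, rfl⟩
      rw [← hm] at h4
      have h5 : r⁻¹ * x * r = m * x := by rw [hm]; group
      have h6 : ∀ i : ℕ, r⁻¹ * x ^ i * r = m ^ i * x ^ i := by
        intro i
        have h8 : r⁻¹ * x ^ i * r = (r⁻¹ * x * r) ^ i := by
          have := (conj_pow (i := i) (a := r⁻¹) (b := x)).symm
          simpa using this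
        have h9 : Commute m x := (hMx m h4).symm
        rw [h8, h5, h9.mul_pow]
      have h10 := h6 7
      rw [← hx, pow_orderOf_eq_one, mul_one, mul_one, inv_mul_cancel, hx] at h10
      have h11 : m = 1 := by
        have h12 : orderOf m ∣ 7 := orderOf_dvd_of_pow_eq_one h10.symm
        rcases (Nat.dvd_prime hp7).1 h12 with h | h
        · exact orderOf_eq_one_iff.1 h
        · exfalso
          apply hM7
          rw [← h]
          exact Subgroup.orderOf_dvd_natCard M h4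
      rw [h11, one_mul, mul_assoc, inv_mul_eq_iff_eq_mul] at h5
      exact h5
    have h3 := hmax (V.comap π) ⟨inferInstance, hcomapR, hcen'⟩
    rw [hcard, hn] at h3
    have h4 : 1 < p ^ n := Nat.one_lt_pow hn0 hp.one_lt
    have h5 : 0 < Nat.card M := Nat.card_pos
    nlinarith
  · -- an element of order `6 p`
    have hQ := hO.quotient M
    set g := v * π y with hg
    have h3 : g ^ (6 * p) = 1 := by rw [pow_mul]; exact hVp _ hv6V
    have h4 : orderOf g ∣ 6 * p := orderOf_dvd_of_pow_eq_one h3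
    have h5 : ¬ orderOf g ∣ 6 := fun h => hv6 (orderOf_dvd_iff_pow_eq_one.1 h)
    have h6 : 6 ∣ orderOf g := by
      obtain ⟨w, hw, hwm⟩ := mul_pow_mem V (y := π y) hv (orderOf g)
      rw [← hg, pow_orderOf_eq_one] at hwm
      have h7' : π y ^ orderOf g ∈ V := by
        have : π y ^ orderOf g = w⁻¹ := eq_inv_of_mul_eq_one_right hwm.symm
        rw [this]; exact V.inv_mem hw
      have h8 : π y ^ orderOf g * π x * (π y ^ orderOf g)⁻¹ * (π x)⁻¹ ∈ V := by
        have h9 := hVn.conj_mem _ (V.inv_mem h7') (π x)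
        have h10 := V.mul_mem h7' h9
        rw [← mul_assoc, ← mul_assoc] at h10
        exact h10
      have h11 := pow_conj_pow hYX (orderOf g)
      rw [h11] at h8
      have h12 : (π x) ^ 3 ^ orderOf g * (π x)⁻¹ = π x ^ (3 ^ orderOf g - 1) := by
        have h1 : 1 ≤ 3 ^ orderOf g := Nat.one_le_pow _ _ (by norm_num)
        rw [mul_inv_eq_iff_eq_mul, ← pow_succ, Nat.sub_add_cancel h1]
      rw [h12] at h8
      apply six_dvd_of_pow
      rw [← hX]
      apply orderOf_dvd_of_pow_eq_one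
      by_contra hne
      apply h7V
      have h13 : orderOf (π x ^ (3 ^ orderOf g - 1)) = 7 := by
        rcases (Nat.dvd_prime hp7).1 (show orderOf (π x ^ (3 ^ orderOf g - 1)) ∣ 7 by
          rw [← hX]; exact orderOf_pow_dvd _) with h | h
        · exact absurd (orderOf_eq_one_iff.1 h) hne
        · exact h
      rw [← h13]
      exact Subgroup.orderOf_dvd_natCard V h8
    obtain ⟨k, hk⟩ := h6
    rw [hk] at h4 h5
    have h7' : k ∣ p := Nat.dvd_of_mul_dvd_mul_left (by norm_num) h4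
    rcases (Nat.dvd_prime hp).1 h7' with h | h
    · apply h5
      rw [h, mul_one]
    · have h8 := hQ g
      rw [hk, h] at h8
      rcases hp35 with rfl | rfl
      · revert h8; decide
      · revert h8; decide

/-- Consequences for `R`: exponent three. -/
theorem pow_three_of_central [Finite G] (hO : Om G) (R : Subgroup G)
    (h7 : ¬ 7 ∣ Nat.card R) (h2 : ¬ 2 ∣ Nat.card R) {x : G} (hx : orderOf x = 7)
    (hc : ∀ r ∈ R, x * r = r * x) : ∀ r ∈ R, r ^ 3 = 1 := by
  intro r hr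
  have h3 := hO r
  have hd := Subgroup.orderOf_dvd_natCard R hr
  have h5 : ¬ 5 ∣ orderOf r := fun h =>
    hO.false_of_commute (show Commute x r from hc r hr) (m := 7) (n := 5) (by rw [hx]) h (by norm_num) (by decide)
  have h9 : ¬ 9 ∣ orderOf r := fun h =>
    hO.false_of_commute (show Commute x r from hc r hr) (m := 7) (n := 9) (by rw [hx]) h (by norm_num) (by decide)
  have h2' : ¬ 2 ∣ orderOf r := fun h => h2 (h.trans hd)
  have h7' : ¬ 7 ∣ orderOf r := fun h => h7 (h.trans hd)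
  have key : ∀ n ∈ L, ¬ 2 ∣ n → ¬ 7 ∣ n → ¬ 5 ∣ n → ¬ 9 ∣ n → n ∣ 3 := by decide
  exact orderOf_dvd_iff_pow_eq_one.1 (key _ h3 h2' h7' h5 h9)

end Cfsg.Agent.H380.TenRec
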