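import Cfsg.Agent.H380.TenRec.Main

/-! The recognition of `A₁₀`, from three statements of the list. -/

set_option autoImplicit false

namespace Cfsg.Agent.H380.TenRec

universe u

theorem final
    (h4008 : ∀ {G : Type u} [Group G] [Finite G] (_ : ¬ Group.IsSolvable G) (_ : Even (Nat.card G))
      (r : ℕ) (_ : r.Prime) (_ : r ≠ 2) (_ : r ∣ Nat.card G) (_ : ∀ g : G, orderOf g ≠ 2 * r)
      (R : Subgroup G) [R.Normal] (_ : Group.IsSolvable ↥R)
      (_ : ∀ N : Subgroup G, N.Normal → Group.IsSolvable ↥N → N ≤ R),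
      ∃ S : Subgroup (G ⧸ R), S.Normal ∧ IsSimpleGroup ↥S ∧ ¬ IsMulCommutative ↥S ∧
        Subgroup.centralizer (S : Set (G ⧸ R)) = ⊥)
    (h3719 : ∀ {G : Type u} [Group G] [Finite G] [IsSimpleGroup G] (_ : ¬ IsMulCommutative G)
      (_ : (Nat.card G).primeFactors.card = 3), Three G)
    (h3720 : ∀ {G : Type u} [Group G] [Finite G] [IsSimpleGroup G] (_ : ¬ IsMulCommutative G)
      (_ : (Nat.card G).primeFactors = {2, 3, 5, 7}), Four G)
    {G : Type u} [Group G] [Finite G]
    (h : Set.range (orderOf : G → ℕ) = Set.range (orderOf : alternatingGroup (Fin 10) → ℕ))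
    (h2 : 2 ^ 7 ∣ Nat.card G) (h2' : ¬ 2 ^ 8 ∣ Nat.card G) : Nonempty (G ≃* alternatingGroup (Fin 10)) := by
  rw [Cfsg.Agent.H380.AltSpec.range_ten] at h
  have hO : Om G := by
    intro g
    have h1 : orderOf g ∈ Set.range (orderOf : G → ℕ) := ⟨g, rfl⟩
    rw [h] at h1
    exact h1
  have hex : ∀ n, n ∈ L → ∃ g : G, orderOf g = n := by
    intro n hn
    have h1 : n ∈ Set.range (orderOf : G → ℕ) := by
      rw [h]
      exact hn
    exact h1
  have o7 := hex 7 (by decide)
  have o8 := hex 8 (by decide)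
  have o10 := hex 10 (by decide)
  have h5 : 5 ∣ Nat.card G := by
    obtain ⟨g, hg⟩ := o10
    have h1 := orderOf_dvd_natCard g
    rw [hg] at h1
    exact (by norm_num : 5 ∣ 10).trans h1
  have h7 : 7 ∣ Nat.card G := by
    obtain ⟨g, hg⟩ := o7
    rw [← hg]
    exact orderOf_dvd_natCard g
  have hns : ¬ Group.IsSolvable G := by
    intro hs
    have h1 : Group.IsSolvable (⊤ : Subgroup G) := inferInstance
    apply not_seven_dvd hO o8 h5 h2 ⊤ h1
    rw [Subgroup.card_top]
    exact h7
  obtain ⟨R, hRc, hRs, hRm⟩ := Cfsg.Agent.SignalizersComponents.ComponentExists.exists_solvableRadical G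
  have hRn : R.Normal := inferInstance
  obtain ⟨S, hSn, hSs, hSc, hSC⟩ := h4008 hns (even_iff_two_dvd.2 ((dvd_pow_self 2 (by norm_num)).trans h2)) 7
    (by norm_num) (by norm_num) h7
    (by
      intro g hg
      have h1 := hO g
      rw [hg] at h1
      exact absurd h1 (by decide)) R hRs hRm
  have C : Ctx G R S :=
    { om := hO, o7 := o7, o8 := o8, o9 := hex 9 (by decide), o10 := o10, two := h2, two' := h2', solv := hRs,
      norm := hSn, simp := hSs, nc := hSc, cent := hSC }
  exact C.main (h3719 hSc) (h3720 hSc)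

end Cfsg.Agent.H380.TenRec
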